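import Groth.Prelude.Def_W4c5stcicurvesp3Euclid
import Mathlib.Algebra.BigOperators.Intervals
import Mathlib.Algebra.BigOperators.Field
import Mathlib.Algebra.Order.BigOperators.Group.Finset
import Mathlib.Algebra.Order.Field.Rat
import Mathlib.Tactic.Ring
import Mathlib.Tactic.FieldSimp
import Mathlib.Tactic.Positivity
import Mathlib.Tactic.Linarith

/-!
# Bounds for sums of Euclidean quotients
-/

open W4c5stcicurvesp3

namespace Groth.Agent.Euclid26

/-- Shifting the Euclidean algorithm by one step. -/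
theorem shift (a b : ℕ) (h : a % b ≠ 0) :
    ∀ n, irem a b (n + 1) = irem b (a % b) n ∧ idiv a b (n + 2) = idiv b (a % b) (n + 1) := by
  intro n
  induction n using Nat.strong_induction_on with
  | _ n ih =>
    match n with
    | 0 => simp [irem, idiv, h]
    | 1 =>
      have e0 : irem a b 1 = a % b := rfl
      have e1 : irem a b 2 = b % (a % b) := by simp [irem, h]
      refine ⟨e1, ?_⟩
      show (if irem a b 2 = 0 then 0 else irem a b 1 / irem a b 2) = _
      rw [e1, e0]
      rfl
    | m + 2 =>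
      have h0 := (ih m (by omega)).1
      have h1 := (ih (m + 1) (by omega)).1
      have e : irem a b (m + 3) = irem b (a % b) (m + 2) := by
        show (if irem a b (m + 2) = 0 then 0 else irem a b (m + 1) % irem a b (m + 2)) = _
        rw [h0, h1]; rfl
      refine ⟨e, ?_⟩
      show (if irem a b (m + 3) = 0 then 0 else irem a b (m + 2) / irem a b (m + 3)) = _
      rw [e, h1]; rfl

theorem sum_idiv_mul_gcd_le : ∀ (t a b : ℕ), 0 < b → b ≤ a → 0 < t → irem a b t = 0 →
    (∀ i, 0 < i → i < t → irem a b i ≠ 0) →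
    (∑ i ∈ Finset.range t, idiv a b (i + 1)) * Nat.gcd b a ≤ a
  | 0, _, _, _, _, ht, _, _ => absurd ht (by omega)
  | 1, a, b, hb, _, _, hz, _ => by
    rw [Finset.sum_range_one]
    show a / b * _ ≤ a
    calc a / b * Nat.gcd b a ≤ a / b * b := Nat.mul_le_mul_left _ (Nat.gcd_le_left _ hb)
      _ ≤ a := Nat.div_mul_le_self a b
  | t + 2, a, b, hb, hba, _, hz, hmin => by
    have hr : a % b ≠ 0 := hmin 1 (by omega) (by omega)
    rw [(shift a b hr _).1] at hz
    have ih := sum_idiv_mul_gcd_le (t + 1) b (a % b) (Nat.pos_of_ne_zero hr)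
      (Nat.mod_lt a hb).le (by omega) hz
      (fun i hi hit => by rw [← (shift a b hr i).1]; exact hmin (i + 1) (by omega) (by omega))
    rw [← Nat.gcd_rec b a] at ih
    rw [Finset.sum_range_succ', Finset.sum_congr rfl (fun i _ => (shift a b hr i).2)]
    show (_ + a / b) * _ ≤ a
    have hg : Nat.gcd b a ≤ a % b := by
      rw [Nat.gcd_rec b a]; exact Nat.gcd_le_left _ (Nat.pos_of_ne_zero hr)
    have hgb : Nat.gcd b a ≤ b := Nat.gcd_le_left _ hb
    obtain ⟨d, hd⟩ : ∃ d, a / b = d + 1 := ⟨a / b - 1, by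
      have := Nat.div_pos hba hb; omega⟩
    have he := Nat.div_add_mod a b
    rw [hd] at he ⊢
    have : d * Nat.gcd b a ≤ d * b := Nat.mul_le_mul_left _ hgb
    nlinarith

theorem key (k N a b d e : ℚ) (hd : 2 ≤ d) (hN : N = d * k + a) (hk : k = e * a + b)
    (he : e = 1 ∨ 2 ≤ e) (hb0 : 0 ≤ b) (hba : b < a) :
    (k - a) / d + (a - b) / (d + e) + b / (d + e + 1) ≤ k ^ 2 / N := by
  have he1 : 1 ≤ e := by rcases he with h | h <;> linarith
  have ha : 0 < a := lt_of_le_of_lt hb0 hba
  have hk0 : 0 < k := by rw [hk]; positivity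
  have hN0 : 0 < N := by rw [hN]; positivity
  have hd0 : 0 < d := by linarith
  have hde : 0 < d + e := by linarith
  have hde1 : 0 < d + e + 1 := by linarith
  rw [← sub_nonneg]
  have : k ^ 2 / N - ((k - a) / d + (a - b) / (d + e) + b / (d + e + 1)) =
      (a * (k * (d * e - d - e) + e * a) * (d + e + 1) + b * d * N) /
        (d * (d + e) * (d + e + 1) * N) := by
    field_simp
    subst hN
    ring
  rw [this]
  refine div_nonneg ?_ (by positivity)
  rcases he with he | he
  · subst he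
    have e1 : k * (d * 1 - d - 1) + 1 * a = -b := by rw [hk]; ring
    rw [e1, hN]
    have h2 : a * (d + 2) ≤ d * (d * k + a) := by
      have : a ≤ k := by rw [hk]; linarith
      nlinarith
    nlinarith
  · have : 0 ≤ d * e - d - e := by nlinarith
    positivity

theorem cast_pos_of_ne {n : ℕ} (h : n ≠ 0) : (0 : ℚ) < n := by exact_mod_cast Nat.pos_of_ne_zero h

theorem two_step (k N : ℕ) (hk : 0 < k) (hkN : 2 * k ≤ N) (h1 : N % k ≠ 0) :
    ((k : ℚ) - (N % k : ℕ)) / (N / k : ℕ) +
      (((N % k : ℕ) : ℚ) - (k % (N % k) : ℕ)) / ((N / k : ℕ) + (k / (N % k) : ℕ) : ℚ) +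
      ((k % (N % k) : ℕ) : ℚ) / ((N / k : ℕ) + (k / (N % k) : ℕ) + 1 : ℚ) ≤ (k : ℚ) ^ 2 / N := by
  refine key _ _ _ _ _ _ ?_ ?_ ?_ ?_ (by positivity) ?_
  · have : 2 ≤ N / k := (Nat.le_div_iff_mul_le hk).mpr (by linarith)
    exact_mod_cast this
  · exact_mod_cast (Nat.div_add_mod' N k).symm
  · exact_mod_cast (Nat.div_add_mod' k (N % k)).symm
  · have h := Nat.div_pos (Nat.mod_lt N hk).le (Nat.pos_of_ne_zero h1)
    rcases (Nat.eq_or_lt_of_le h : 1 = _ ∨ 1 < _) with h | h
    · left; exact_mod_cast h.symm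
    · right; exact_mod_cast h
  · exact_mod_cast Nat.mod_lt k (Nat.pos_of_ne_zero h1)

theorem three_step (k N : ℕ) (hk : 0 < k) (hkN : 2 * k ≤ N)
    (h1 : irem N k 1 ≠ 0) (h2 : irem N k 2 ≠ 0) :
    ((irem N k 0 : ℚ) - irem N k 1) / (idiv N k 1)
      + ((irem N k 1 : ℚ) - irem N k 2) / ((idiv N k 1 : ℚ) + idiv N k 2)
      + (irem N k 2 : ℚ) / ((idiv N k 1 : ℚ) + idiv N k 2 + 1)
      ≤ (k : ℚ) ^ 2 / N := by
  have hr : N % k ≠ 0 := h1
  have e2 : irem N k 2 = k % (N % k) := by simp [irem, hr]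
  have q2 : idiv N k 2 = k / (N % k) := by simp [irem, idiv, hr]
  rw [e2, q2]
  exact two_step k N hk hkN hr

theorem irem_anti (a b : ℕ) (i : ℕ) : irem a b (i + 2) ≤ irem a b (i + 1) := by
  show (if irem a b (i + 1) = 0 then 0 else irem a b i % irem a b (i + 1)) ≤ _
  split_ifs with h
  · exact Nat.zero_le _
  · exact (Nat.mod_lt _ (Nat.pos_of_ne_zero h)).le

theorem telescoping (k N t : ℕ) (hk : 0 < k) (hkN : 2 * k ≤ N) (ht : 0 < t)
    (hzero : irem N k t = 0) (hmin : ∀ i, 0 < i → i < t → irem N k i ≠ 0) :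
    ∑ i ∈ Finset.range t, ((irem N k i : ℚ) - irem N k (i + 1)) /
        (∑ j ∈ Finset.Icc 1 (i + 1), (idiv N k j : ℚ)) ≤ (k : ℚ) ^ 2 / N := by
  let r : ℕ → ℚ := fun i => irem N k i
  let D : ℕ → ℚ := fun i => ∑ j ∈ Finset.Icc 1 (i + 1), (idiv N k j : ℚ)
  show ∑ i ∈ Finset.range t, (r i - r (i + 1)) / D i ≤ _
  have D0 : D 0 = (N / k : ℕ) := by simp [D, idiv]
  have DS : ∀ i, D (i + 1) = D i + idiv N k (i + 2) := fun i =>
    Finset.sum_Icc_succ_top (by omega) _
  match t, ht with
  | 1, _ =>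
    have hr : N % k = 0 := hzero
    have hd : N / k * k = N := Nat.div_mul_cancel (Nat.dvd_of_mod_eq_zero hr)
    rw [Finset.sum_range_one, D0]
    have hk' : (k : ℚ) ≠ 0 := by positivity
    have hN : (N : ℚ) = (N / k : ℕ) * k := by exact_mod_cast hd.symm
    have : ((N / k : ℕ) : ℚ) ≠ 0 := by
      have : 0 < N / k := Nat.div_pos (by omega) hk
      positivity
    refine le_of_eq ?_
    simp only [r, irem, hr, Nat.cast_zero, sub_zero]
    rw [hN]
    field_simp
  | t + 2, _ =>
    have hr : N % k ≠ 0 := hmin 1 (by omega) (by omega)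
    have e2 : irem N k 2 = k % (N % k) := by simp [irem, hr]
    have q2 : idiv N k 2 = k / (N % k) := by simp [irem, idiv, hr]
    have key := two_step k N hk hkN hr
    have D1 : D 1 = ((N / k : ℕ) : ℚ) + (k / (N % k) : ℕ) := by rw [DS, D0, q2]
    have hN0 : 0 < N / k := Nat.div_pos (by omega) hk
    have Dpos : ∀ i, 0 < D i := by
      intro i
      induction i with
      | zero => rw [D0]; exact_mod_cast hN0
      | succ i ih => rw [DS]; positivity
    have hnum : ∀ i, 0 ≤ r (i + 1) - r (i + 2) := fun i =>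
      sub_nonneg.mpr (Nat.cast_le.mpr (irem_anti N k i))
    -- terms past the second are at most the third denominator
    have tail : ∀ i ∈ Finset.range t,
        (r (i + 2) - r (i + 3)) / D (i + 2) ≤ (r (i + 2) - r (i + 3)) / (D 1 + 1) := by
      intro i hi
      rw [Finset.mem_range] at hi
      refine div_le_div_of_nonneg_left (hnum (i + 1)) (by linarith [Dpos 1]) ?_
      have hne : irem N k (i + 2) ≠ 0 := hmin _ (by omega) (by omega)
      have hq : 1 ≤ idiv N k (i + 3) := by
        show 1 ≤ if irem N k (i + 2) = 0 then 0 else irem N k (i + 1) / irem N k (i + 2)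
        rw [if_neg hne]
        exact Nat.div_pos (irem_anti N k i) (Nat.pos_of_ne_zero hne)
      have hmono : ∀ j, D 1 ≤ D (j + 1) := fun j => by
        induction j with
        | zero => exact le_rfl
        | succ j ih => rw [DS (j + 1)]; exact le_add_of_le_of_nonneg ih (by positivity)
      rw [DS (i + 1)]
      exact add_le_add (hmono i) (by exact_mod_cast hq)
    rw [Finset.sum_range_succ' , Finset.sum_range_succ']
    refine le_trans (add_le_add (add_le_add (Finset.sum_le_sum tail) le_rfl) le_rfl) ?_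
    have tele : ∑ i ∈ Finset.range t, (r (i + 2) - r (i + 3)) = r 2 - r (t + 2) :=
      Finset.sum_range_sub' (fun i => r (i + 2)) t
    rw [← Finset.sum_div, tele, show r (t + 2) = 0 by simp [r, hzero], sub_zero]
    simp only [r, Nat.zero_add, D1, D0, e2]
    rw [show irem N k 1 = N % k from rfl, show irem N k 0 = k from rfl]
    linarith [key]

end Groth.Agent.Euclid26
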